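import Groth.Agent.Lib.PicDesc21.Descend
import Groth.Agent.Lib.TensorMod.PicLaw
import Groth.Prelude.Def_AbDual

/-!
Calculus of classes of invertible modules on `X ×_S T`, and descent of equalities of rigidified classes.
-/

universe u

open CategoryTheory CategoryTheory.Limits AlgebraicGeometry Opposite

set_option backward.isDefEq.respectTransparency false

noncomputable section

namespace Groth.Agent.PicDesc21

variable {X Y Z : Scheme.{u}}

theorem pullCl_pullCl (g : X ⟶ Y) (h : Y ⟶ Z) (c : PicF.Cl Z) :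
    PicF.pullCl g (PicF.pullCl h c) = PicF.pullCl (g ≫ h) c := (PicLoc.pullCl_comp g h c).symm

theorem pullCl_structure (g : X ⟶ Y) :
    PicF.pullCl g (PicF.cl (Coh.structureModule Y)) = PicF.cl (Coh.structureModule X) :=
  Quot.sound ⟨PicLoc.pullbackStructureIso g⟩

theorem pullCl_trivial (g : X ⟶ Y) {c : PicF.Cl Y} (h : PicF.IsTrivialCl c) : PicF.IsTrivialCl (PicF.pullCl g c) := by
  rw [PicF.IsTrivialCl, h, pullCl_structure]

theorem pullCl_mulCl (g : X ⟶ Y) (c d : PicF.Cl Y) :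
    PicF.pullCl g (PicGrp.mulCl c d) = PicGrp.mulCl (PicF.pullCl g c) (PicF.pullCl g d) := by
  obtain ⟨L, rfl⟩ := M2.exists_eq_cl c
  obtain ⟨M, rfl⟩ := M2.exists_eq_cl d
  exact M2.cl_eq_of_iso (M2.pullTensorIso g L M)

theorem mulCl_one (a : PicF.Cl Y) : PicGrp.mulCl a (PicF.cl (Coh.structureModule Y)) = a := by
  rw [M2.mulCl_comm, M2.one_mulCl]

theorem isInvertibleCl_pull (g : X ⟶ Y) {c : PicF.Cl Y} (h : PicF.IsInvertibleCl c) :
    PicF.IsInvertibleCl (PicF.pullCl g c) := by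
  obtain ⟨L, rfl, hL⟩ := h
  exact ⟨_, rfl, PicLoc.isInvertible_pullback g hL⟩

variable {S : Scheme.{u}} (f : X ⟶ S)

/-- comparison of the two base changes -/
theorem bijective_appTop_base (ha : ∀ (T : Scheme.{u}) (τ : T ⟶ S), Function.Bijective (pullback.snd f τ).appTop)
    (T : Over S) (U : Scheme.{u}) (τ : U ⟶ T.left) :
    Function.Bijective (pullback.snd (PicF.XTproj f T) τ).appTop := by
  let e : pullback (pullback.snd f T.hom) τ ≅ pullback f (τ ≫ T.hom) := pullbackLeftPullbackSndIso f T.hom τ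
  have h : e.hom ≫ pullback.snd f (τ ≫ T.hom) = pullback.snd (PicF.XTproj f T) τ :=
    pullbackLeftPullbackSndIso_hom_snd _ _ _
  rw [← h, Scheme.Hom.comp_appTop]
  exact ((ConcreteCategory.isIso_iff_bijective e.hom.appTop).1 inferInstance).comp (ha _ _)

/-- Invertible classes with the same rigidification which agree fppf locally on the base are equal. -/
theorem cl_eq_of_local (ha : ∀ (T : Scheme.{u}) (τ : T ⟶ S), Function.Bijective (pullback.snd f τ).appTop)
    (σ : S ⟶ X) (hσ : σ ≫ f = 𝟙 S) {T : Over S} {c c' : PicF.Cl (PicF.XT f T)}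
    (hc : PicF.IsInvertibleCl c) (hc' : PicF.IsInvertibleCl c')
    (hs : PicF.pullCl (PicF.secT f σ hσ T) c = PicF.pullCl (PicF.secT f σ hσ T) c')
    {R : Presieve T.left} (hR : R ∈ Scheme.fppfPrecoverage T.left)
    (h : ∀ ⦃U : Scheme.{u}⦄ (u : U ⟶ T.left), R u →
      PicF.pullCl (PicF.XTmap f (AbDual.ovrHom T u)) c = PicF.pullCl (PicF.XTmap f (AbDual.ovrHom T u)) c') :
    c = c' := by
  obtain ⟨L, rfl, hL⟩ := hc
  obtain ⟨M, rfl, hM⟩ := hc'
  refine (PicGrp.cl_eq_cl_iff L M).2 (nonempty_iso_of_local (PicF.XTproj f T) (PicF.secT f σ hσ T)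
    (pullback.lift_snd _ _ _) (bijective_appTop_base f ha T) hL hM ((PicGrp.cl_eq_cl_iff _ _).1 hs)
    (mem_fppf_presieve hR) fun k => ?_)
  let e := pullbackLeftPullbackSndIso f T.hom k.2.1
  have he : pullback.fst (PicF.XTproj f T) k.2.1 = e.hom ≫ PicF.XTmap f (AbDual.ovrHom T k.2.1) := by
    refine pullback.hom_ext ?_ ?_
    · simp [e, PicF.XTmap]
    · simp [e, PicF.XTmap, pullback.condition]
  refine (PicGrp.cl_eq_cl_iff _ _).1 ?_
  rw [← PicLoc.pullCl_cl, ← PicLoc.pullCl_cl, he, ← pullCl_pullCl, ← pullCl_pullCl, h k.2.1 k.2.2]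

end Groth.Agent.PicDesc21

end
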