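import Mathlib.AlgebraicGeometry.Sites.Fpqc
import Mathlib.Algebra.Polynomial.Eval.Coeff

/-!
Functions descend along fppf families.
-/

universe u

open CategoryTheory CategoryTheory.Limits AlgebraicGeometry Opposite

noncomputable section

namespace Groth.Agent.PicDesc21

/-- the ring `ℤ[T]` -/
abbrev Coord : CommRingCat.{u} := CommRingCat.of (Polynomial (ULift.{u} ℤ))

/-- the function defined by a morphism to the affine line -/
def evA {T : Scheme.{u}} (g : T ⟶ Spec Coord.{u}) : Γ(T, ⊤) :=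
  g.appTop ((Scheme.ΓSpecIso Coord.{u}).inv Polynomial.X)

theorem evA_comp {T T' : Scheme.{u}} (p : T' ⟶ T) (g : T ⟶ Spec Coord.{u}) :
    evA (p ≫ g) = p.appTop (evA g) := by
  simp only [evA, Scheme.Hom.comp_appTop]
  rfl

theorem evA_bijective (T : Scheme.{u}) : Function.Bijective (evA (T := T)) := by
  constructor
  · intro g g' h
    refine ext_of_isAffine ?_
    rw [← cancel_epi (Scheme.ΓSpecIso Coord.{u}).inv]
    ext1
    refine Polynomial.ringHom_ext (fun n => ?_) h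
    obtain ⟨n⟩ := n
    let φ : ∀ g : T ⟶ Spec Coord.{u}, ULift.{u} ℤ →+* Γ(T, ⊤) := fun g =>
      ((Scheme.ΓSpecIso Coord.{u}).inv ≫ g.appTop).hom.comp Polynomial.C
    have : (φ g).comp ULift.ringEquiv.symm.toRingHom = (φ g').comp ULift.ringEquiv.symm.toRingHom :=
      RingHom.ext_int _ _
    exact congr($this n)
  · intro a
    refine ⟨T.toSpecΓ ≫ Spec.map (CommRingCat.ofHom
      (Polynomial.eval₂RingHom ((Int.castRingHom Γ(T, ⊤)).comp ULift.ringEquiv.toRingHom) a)), ?_⟩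
    simp [evA, Scheme.toSpecΓ_appTop]

theorem ι_appLE_top {X : Scheme.{u}} (U : X.Opens) (e) :
    U.ι.appLE U ⊤ e = U.topIso.inv := by
  simp
  exact congrArg X.presheaf.map (Subsingleton.elim _ _)

theorem mem_fppf_iff {X : Scheme.{u}} {ι : Type*} {Y : ι → Scheme.{u}} {π : ∀ k, Y k ⟶ X} :
    Presieve.ofArrows Y π ∈ Scheme.fppfPrecoverage X ↔
      (∀ x, ∃ k, x ∈ Set.range (π k)) ∧ ∀ k, Flat (π k) ∧ LocallyOfFinitePresentation (π k) := by
  rw [Scheme.fppfPrecoverage]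
  exact Scheme.ofArrows_mem_precoverage_iff _

theorem mem_fppf_of_isPullback {X X' : Scheme.{u}} {ι : Type*} {Y Y' : ι → Scheme.{u}} {π : ∀ k, Y k ⟶ X}
    (hπ : Presieve.ofArrows Y π ∈ Scheme.fppfPrecoverage X) {g : X' ⟶ X} {π' : ∀ k, Y' k ⟶ X'}
    {g' : ∀ k, Y' k ⟶ Y k} (h : ∀ k, IsPullback (g' k) (π' k) (π k) g) :
    Presieve.ofArrows Y' π' ∈ Scheme.fppfPrecoverage X' := by
  rw [mem_fppf_iff] at hπ ⊢
  refine ⟨fun x => ?_, fun k => ⟨MorphismProperty.of_isPullback (h k) (hπ.2 k).1,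
    MorphismProperty.of_isPullback (h k) (hπ.2 k).2⟩⟩
  obtain ⟨k, y, hy⟩ := hπ.1 (g x)
  obtain ⟨z, -, hz⟩ := Scheme.Pullback.exists_preimage_pullback (f := π k) (g := g) y x hy
  refine ⟨k, (h k).isoPullback.inv z, ?_⟩
  rw [← Scheme.Hom.comp_apply, IsPullback.isoPullback_inv_snd, hz]

theorem mem_fppf_presieve {X : Scheme.{u}} {P : Presieve X} (hP : P ∈ Scheme.fppfPrecoverage X) :
    Presieve.ofArrows (fun k : Σ Y, {g : Y ⟶ X // P g} => k.1) (fun k => k.2.1) ∈ Scheme.fppfPrecoverage X := by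
  suffices h : Presieve.ofArrows (fun k : Σ Y, {g : Y ⟶ X // P g} => k.1) (fun k => k.2.1) = P by rwa [h]
  refine le_antisymm (fun Y g ⟨k⟩ => k.2.2) fun Y g hg => ?_
  exact Presieve.ofArrows.mk (⟨Y, g, hg⟩ : Σ Y, {g : Y ⟶ X // P g})

variable {X : Scheme.{u}} {ι : Type*} {Y : ι → Scheme.{u}} {π : ∀ k, Y k ⟶ X}

/-- functions on an open descend along an fppf family -/
theorem existsUnique_fun (hπ : Presieve.ofArrows Y π ∈ Scheme.fppfPrecoverage X) (V : X.Opens)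
    (s : ∀ k, Γ(Y k, π k ⁻¹ᵁ V))
    (hs : ∀ k l (Z : Scheme.{u}) (p : Z ⟶ Y k) (q : Z ⟶ Y l), p ≫ π k = q ≫ π l →
      ∀ (W : Z.Opens) (e : W ≤ p ⁻¹ᵁ π k ⁻¹ᵁ V) (e' : W ≤ q ⁻¹ᵁ π l ⁻¹ᵁ V),
        p.appLE _ W e (s k) = q.appLE _ W e' (s l)) :
    ∃! t : Γ(X, V), ∀ k, (π k).app V t = s k := by
  have hcov : Presieve.ofArrows (fun k => (π k ⁻¹ᵁ V).toScheme) (fun k => π k ∣_ V) ∈
      Scheme.fppfPrecoverage V.toScheme :=
    mem_fppf_of_isPullback hπ fun k => (isPullback_morphismRestrict (π k) V).flip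
  have hsh : (Presieve.ofArrows (fun k => (π k ⁻¹ᵁ V).toScheme) (fun k => π k ∣_ V)).IsSheafFor
      (yoneda.obj (Spec Coord.{u})) :=
    (Presieve.isSheafFor_iff_generate _).2
      ((GrothendieckTopology.Subcanonical.isSheaf_of_isRepresentable (J := Scheme.fppfTopology) _) _
        (Precoverage.generate_mem_toGrothendieck hcov))
  choose g hg using fun k => (evA_bijective (π k ⁻¹ᵁ V).toScheme).2 ((π k ⁻¹ᵁ V).topIso.inv (s k))
  have htop : ∀ k (Z : Scheme.{u}) (p : Z ⟶ (π k ⁻¹ᵁ V).toScheme) e,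
      p.appTop (((π k ⁻¹ᵁ V).topIso.inv) (s k)) = (p ≫ (π k ⁻¹ᵁ V).ι).appLE (π k ⁻¹ᵁ V) ⊤ e (s k) := by
    intro k Z p e
    have h := Scheme.Hom.appLE_comp_appLE p (π k ⁻¹ᵁ V).ι (π k ⁻¹ᵁ V) ⊤ ⊤ (by simp) (by simp)
    rw [ι_appLE_top] at h
    rw [show p.appTop = p.appLE ⊤ ⊤ (by simp) from Scheme.Hom.app_eq_appLE p]
    exact ConcreteCategory.congr_hom h (s k)
  obtain ⟨g₀, hg₀, hg₀'⟩ := (Presieve.isSheafFor_arrows_iff _ _).1 hsh g (fun k l Z p q hpq => by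
    refine (evA_bijective Z).1 ?_
    change evA (p ≫ g k) = evA (q ≫ g l)
    rw [evA_comp, evA_comp, hg, hg, htop k Z p (fun z _ => (p z).2), htop l Z q (fun z _ => (q z).2)]
    refine hs k l Z _ _ ?_ ⊤ _ _
    rw [Category.assoc, Category.assoc, ← morphismRestrict_ι, ← morphismRestrict_ι]
    have h2 := congrArg (· ≫ V.ι) hpq
    simpa only [Category.assoc] using h2)
  have key : ∀ (k : ι) (t : Γ(X, V)), (π k ∣_ V).appTop (V.topIso.inv t) = (π k ⁻¹ᵁ V).topIso.inv ((π k).app V t) := by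
    intro k t
    have h := Scheme.Hom.appLE_comp_appLE (π k ∣_ V) V.ι V ⊤ ⊤ (by simp) (by simp)
    have h' := Scheme.Hom.appLE_comp_appLE (π k ⁻¹ᵁ V).ι (π k) V (π k ⁻¹ᵁ V) ⊤ le_rfl (by simp)
    simp only [morphismRestrict_ι] at h
    rw [← h', ι_appLE_top, ι_appLE_top, ← Scheme.Hom.app_eq_appLE] at h
    rw [show (π k ∣_ V).appTop = (π k ∣_ V).appLE ⊤ ⊤ (by simp) from Scheme.Hom.app_eq_appLE (π k ∣_ V)]
    exact ConcreteCategory.congr_hom h t
  refine ⟨V.topIso.hom (evA g₀), fun k => ?_, fun t ht => ?_⟩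
  · have h := key k (V.topIso.hom (evA g₀))
    rw [Iso.hom_inv_id_apply, ← evA_comp, show (π k ∣_ V) ≫ g₀ = g k from hg₀ k, hg] at h
    exact ((ConcreteCategory.bijective_of_isIso (π k ⁻¹ᵁ V).topIso.inv).1 h).symm
  · obtain ⟨g₁, hg₁⟩ := (evA_bijective V.toScheme).2 (V.topIso.inv t)
    have : g₁ = g₀ := hg₀' g₁ fun k => (evA_bijective _).1 (by
      change evA ((π k ∣_ V) ≫ g₁) = evA (g k)
      rw [evA_comp, hg₁, key, ht, hg])
    rw [← this, hg₁, Iso.inv_hom_id_apply]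

/-- functions on an open are determined on an fppf family -/
theorem fun_ext (hπ : Presieve.ofArrows Y π ∈ Scheme.fppfPrecoverage X) {V : X.Opens} {t t' : Γ(X, V)}
    (h : ∀ k, (π k).app V t = (π k).app V t') : t = t' := by
  refine (existsUnique_fun hπ V (fun k => (π k).app V t') fun k l Z p q hpq W e e' => ?_).unique h fun _ => rfl
  have h₁ := Scheme.Hom.appLE_comp_appLE p (π k) V (π k ⁻¹ᵁ V) W le_rfl e
  have h₂ := Scheme.Hom.appLE_comp_appLE q (π l) V (π l ⁻¹ᵁ V) W le_rfl e'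
  rw [← Scheme.Hom.app_eq_appLE] at h₁ h₂
  simp only [hpq] at h₁
  exact congr($(h₁.trans h₂.symm).hom t')

end Groth.Agent.PicDesc21

end
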