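import Groth.Agent.Lib.Twist.Gen
import Groth.Agent.Lib.PicDesc21.Fun

/-!
Isomorphisms of invertible modules in terms of coefficient families with respect to local generators.
-/

universe u

open CategoryTheory CategoryTheory.Limits AlgebraicGeometry Opposite TopologicalSpace

set_option backward.isDefEq.respectTransparency false

noncomputable section

namespace Groth.Agent.PicDesc21

open Groth.Agent.M1 Groth.Agent.Twist

variable {X X' X'' : Scheme.{u}}

theorem exists_gen {L : X.Modules} (hL : PicF.IsInvertible L) (x : X) :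
    ∃ (D : X.Opens) (g : Γ(L, D)), x ∈ D ∧ IsGen L D g := by
  obtain ⟨D, hxD, ⟨ι⟩⟩ := hL x
  have himg : D.ι ''ᵁ ⊤ = D := by simp
  let g' : Γ(L.restrict D.ι, ⊤) := ι.inv.app ⊤ (one ⊤)
  refine ⟨D, mres L himg.ge g', hxD, fun V hV => ?_⟩
  obtain ⟨W, rfl⟩ : ∃ W : (D : Scheme.{u}).Opens, D.ι ''ᵁ W = V :=
    ⟨D.ι ⁻¹ᵁ V, by rw [Scheme.Hom.image_preimage_eq_opensRange_inf, Scheme.Opens.opensRange_ι, inf_eq_right.2 hV]⟩
  have hb : Function.Bijective (ι.inv.app W) := (ConcreteCategory.isIso_iff_bijective _).1 inferInstance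
  have key : ∀ r : Γ(X, D.ι ''ᵁ W), r • mres L hV (mres L himg.ge g') =
      ι.inv.app W ((D.ι.appIso W).hom r : Γ(Coh.structureModule (D : Scheme.{u}), W)) := fun r => by
    rw [show mres L hV (mres L himg.ge g') = mres L (D.ι.image_mono (le_top : W ≤ ⊤)) g' from mres_mres L himg.ge hV _,
      show ((D.ι.appIso W).hom r : Γ(Coh.structureModule (D : Scheme.{u}), W)) = (D.ι.appIso W).hom r • one W from
      (mul_one _).symm, Scheme.Modules.Hom.app_smul, ← mres_one (le_top : W ≤ ⊤), app_mres]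
    show _ = ((D.ι.appIso W).inv ((D.ι.appIso W).hom r) : Γ(X, D.ι ''ᵁ W)) • mres L (Scheme.Hom.image_mono _ le_top) g'
    rw [Iso.hom_inv_id_apply]
  simp only [key]
  exact hb.comp ((ConcreteCategory.isIso_iff_bijective (D.ι.appIso W).hom).1 inferInstance)

theorem pullSec_mres (π : X' ⟶ X) (M : X.Modules) {U V : X.Opens} (h : V ≤ U) (s : Γ(M, U)) :
    M2.pullSec π M (mres M h s) = mres _ (π.preimage_mono h) (M2.pullSec π M s) :=
  app_mres _ h s

theorem appLE_res (π : X' ⟶ X) {U : X.Opens} {W W' : X'.Opens} (e : W ≤ π ⁻¹ᵁ U) (h : W' ≤ W) (r : Γ(X, U)) :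
    ores h (π.appLE U W e r) = π.appLE U W' (h.trans e) r :=
  ConcreteCategory.congr_hom (Scheme.Hom.appLE_map π e (homOfLE h).op) r

theorem app_res (π : X' ⟶ X) {U : X.Opens} {W : X'.Opens} (e : W ≤ π ⁻¹ᵁ U) (r : Γ(X, U)) :
    ores e (π.app U r) = π.appLE U W e r := rfl

theorem appLE_appLE (p : X'' ⟶ X') (π : X' ⟶ X) {U : X.Opens} {V : X'.Opens} {W : X''.Opens}
    (e : V ≤ π ⁻¹ᵁ U) (e' : W ≤ p ⁻¹ᵁ V) (r : Γ(X, U)) :
    p.appLE V W e' (π.appLE U V e r) = (p ≫ π).appLE U W (e'.trans (p.preimage_mono e)) r :=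
  ConcreteCategory.congr_hom (Scheme.Hom.appLE_comp_appLE p π U V W e e') r

theorem appLE_app (p : X'' ⟶ X') (π : X' ⟶ X) {U : X.Opens} {W : X''.Opens} (e' : W ≤ p ⁻¹ᵁ π ⁻¹ᵁ U) (r : Γ(X, U)) :
    p.appLE (π ⁻¹ᵁ U) W e' (π.app U r) = (p ≫ π).appLE U W e' r := by
  rw [Scheme.Hom.app_eq_appLE]
  exact appLE_appLE p π le_rfl e' r

theorem appLE_ores (π : X' ⟶ X) {U V : X.Opens} (h : V ≤ U) {W : X'.Opens} (e : W ≤ π ⁻¹ᵁ V) (r : Γ(X, U)) :
    π.appLE V W e (ores h r) = π.appLE U W (e.trans (π.preimage_mono h)) r :=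
  ConcreteCategory.congr_hom (Scheme.Hom.map_appLE π e (homOfLE h).op) r

/-- local generators of two modules on a common covering -/
structure Frame (L M : X.Modules) where
  U : X → X.Opens
  mem : ∀ x, x ∈ U x
  g : ∀ x, Γ(L, U x)
  m : ∀ x, Γ(M, U x)
  hg : ∀ x, IsGen L (U x) (g x)
  hm : ∀ x, IsGen M (U x) (m x)

theorem nonempty_frame {L M : X.Modules} (hL : PicF.IsInvertible L) (hM : PicF.IsInvertible M) :
    Nonempty (Frame L M) := by
  choose D g hD hg using exists_gen hL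
  choose E m hE hm using exists_gen hM
  exact ⟨⟨fun x => D x ⊓ E x, fun x => ⟨hD x, hE x⟩, fun x => mres L inf_le_left (g x),
    fun x => mres M inf_le_right (m x), fun x => (hg x).mres _, fun x => (hm x).mres _⟩⟩

namespace Frame

variable {L M : X.Modules} (F : Frame L M)

/-- transition functions of the first module -/
def t (x y : X) : Γ(X, F.U x ⊓ F.U y) :=
  ((F.hg x (F.U x ⊓ F.U y) inf_le_left).2 (mres L inf_le_right (F.g y))).choose

theorem ht (x y : X) : mres L (inf_le_right : F.U x ⊓ F.U y ≤ F.U y) (F.g y) =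
    F.t x y • mres L inf_le_left (F.g x) :=
  ((F.hg x (F.U x ⊓ F.U y) inf_le_left).2 (mres L inf_le_right (F.g y))).choose_spec.symm

/-- transition functions of the second module -/
def t' (x y : X) : Γ(X, F.U x ⊓ F.U y) :=
  ((F.hm x (F.U x ⊓ F.U y) inf_le_left).2 (mres M inf_le_right (F.m y))).choose

theorem ht' (x y : X) : mres M (inf_le_right : F.U x ⊓ F.U y ≤ F.U y) (F.m y) =
    F.t' x y • mres M inf_le_left (F.m x) :=
  ((F.hm x (F.U x ⊓ F.U y) inf_le_left).2 (mres M inf_le_right (F.m y))).choose_spec.symm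

theorem cover (π : X' ⟶ X) : ⨆ x, π ⁻¹ᵁ F.U x = ⊤ :=
  top_le_iff.1 fun z _ => Opens.mem_iSup.2 ⟨π z, F.mem (π z)⟩

/-- `a` is a coefficient family of an isomorphism between the pullbacks along `π` -/
structure Fam (π : X' ⟶ X) (a : ∀ x, Γ(X', π ⁻¹ᵁ F.U x)) : Prop where
  isUnit : ∀ x, IsUnit (a x)
  comm : ∀ (x y : X) (W : X'.Opens) (e : W ≤ π ⁻¹ᵁ (F.U x ⊓ F.U y)),
    π.appLE _ W e (F.t' x y) * ores (e.trans (π.preimage_mono inf_le_right)) (a y) =
      π.appLE _ W e (F.t x y) * ores (e.trans (π.preimage_mono inf_le_left)) (a x)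

theorem trans_pull (π : X' ⟶ X) (N : X.Modules) {U V : X.Opens} {s : Γ(N, U)} {s' : Γ(N, V)} {c : Γ(X, U ⊓ V)}
    (h : mres N (inf_le_right : U ⊓ V ≤ V) s' = c • mres N inf_le_left s) (W : X'.Opens) (e : W ≤ π ⁻¹ᵁ (U ⊓ V)) :
    mres _ (e.trans (π.preimage_mono inf_le_right)) (M2.pullSec π N s') =
      π.appLE _ W e c • mres _ (e.trans (π.preimage_mono inf_le_left)) (M2.pullSec π N s) := by
  have h1 := congrArg (fun z => mres _ e (M2.pullSec π N z)) h
  simp only [M2.pullSec_smul, pullSec_mres, mres_smul, mres_mres] at h1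
  exact h1

/-- an isomorphism of pullbacks gives a coefficient family -/
theorem exists_fam (π : X' ⟶ X)
    (e : (Scheme.Modules.pullback π).obj L ≅ (Scheme.Modules.pullback π).obj M) : ∃ a, F.Fam π a := by
  have hG := fun x => (F.hg x).pullback π
  have hH := fun x => (F.hm x).pullback π
  have ha : ∀ x, ∃ a : Γ(X', π ⁻¹ᵁ F.U x), a • M2.pullSec π M (F.m x) =
      e.hom.app (π ⁻¹ᵁ F.U x) (M2.pullSec π L (F.g x)) := fun x => by
    obtain ⟨a, ha⟩ := (hH x _ le_rfl).2 (e.hom.app (π ⁻¹ᵁ F.U x) (M2.pullSec π L (F.g x)))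
    exact ⟨a, by rwa [← mres_id ((Scheme.Modules.pullback π).obj M) le_rfl (M2.pullSec π M (F.m x))]⟩
  choose a ha using ha
  refine ⟨a, fun x => ?_, fun x y W he => ?_⟩
  · obtain ⟨b, hb⟩ := (hG x _ le_rfl).2 (e.inv.app (π ⁻¹ᵁ F.U x) (M2.pullSec π M (F.m x)))
    simp only [mres_id] at hb
    have hb' : e.hom.app (π ⁻¹ᵁ F.U x) (e.inv.app (π ⁻¹ᵁ F.U x) (M2.pullSec π M (F.m x))) = M2.pullSec π M (F.m x) :=
      congr(($(e.inv_hom_id)).app (π ⁻¹ᵁ F.U x) (M2.pullSec π M (F.m x)))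
    rw [← hb, Scheme.Modules.Hom.app_smul, ← ha, ← mul_smul] at hb'
    have h1 : b * a x = 1 := (hH x _ le_rfl).1 (show (b * a x) • mres _ le_rfl _ = (1 : Γ(X', π ⁻¹ᵁ F.U x)) • mres _ le_rfl _ by
      rw [mres_id, one_smul, hb'])
    exact IsUnit.of_mul_eq_one_right _ h1
  · refine (hH x W (he.trans (π.preimage_mono inf_le_left))).1 ?_
    show (_ * _) • mres _ _ _ = (_ * _) • mres _ _ _
    have h1 := trans_pull π L (F.ht x y) W he
    have h2 := trans_pull π M (F.ht' x y) W he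
    have h3 := congrArg (e.hom.app W) h1
    rw [Scheme.Modules.Hom.app_smul, app_mres, app_mres, ← ha, ← ha, mres_smul, mres_smul, h2, ← mul_smul,
      ← mul_smul] at h3
    rw [mul_comm, h3]

/-- a coefficient family over the base gives an isomorphism -/
theorem nonempty_iso {a : ∀ x, Γ(X, F.U x)} (h : F.Fam (𝟙 X) a) : Nonempty (L ≅ M) := by
  refine ⟨(exists_iso_of_gen F.U (F.cover (𝟙 X)) F.g (fun x => a x • F.m x) F.hg (fun x V hV => ?_) ?_).choose⟩
  · have hu' : IsUnit (ores hV (a x)) := IsUnit.map (ores hV).hom (h.isUnit x)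
    have := (F.hm x V hV).comp (hu'.unit.mulRight).bijective
    convert this using 1
    funext r
    simp only [Function.comp_apply, Units.mulRight_apply, IsUnit.unit_spec, mres_smul, mul_smul]
  · intro x y V hx hy t ht
    have he : V ≤ F.U x ⊓ F.U y := le_inf hx hy
    have h1 := congrArg (mres L he) (F.ht x y)
    rw [mres_mres, mres_smul, mres_mres, ht] at h1
    obtain rfl : t = ores he (F.t x y) := (F.hg x V hx).1 h1
    have h2 := congrArg (mres M he) (F.ht' x y)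
    rw [mres_mres, mres_smul, mres_mres] at h2
    rw [mres_smul, mres_smul, h2, ← mul_smul, ← mul_smul]
    congr 1
    have h3 := h.comm x y V he
    have hid : ∀ r : Γ(X, F.U x ⊓ F.U y), (𝟙 X : X ⟶ X).appLE (F.U x ⊓ F.U y) V he r = ores he r := fun r => rfl
    rw [hid, hid] at h3
    rw [mul_comm]
    exact h3

variable {F}

/-- pullback of families -/
theorem Fam.comp {π : X' ⟶ X} {a : ∀ x, Γ(X', π ⁻¹ᵁ F.U x)} (h : F.Fam π a) (p : X'' ⟶ X') :
    F.Fam (p ≫ π) (fun x => p.app (π ⁻¹ᵁ F.U x) (a x)) where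
  isUnit x := (h.isUnit x).map _
  comm x y W e := by
    have h1 := congrArg (p.appLE (π ⁻¹ᵁ (F.U x ⊓ F.U y)) W e) (h.comm x y _ le_rfl)
    simp only [map_mul, appLE_appLE, appLE_ores] at h1
    exact h1

/-- scaling by a global unit -/
theorem Fam.smul {π : X' ⟶ X} {a : ∀ x, Γ(X', π ⁻¹ᵁ F.U x)} (h : F.Fam π a) (c : Γ(X', ⊤)) (hc : IsUnit c) :
    F.Fam π (fun x => ores (le_top : π ⁻¹ᵁ F.U x ≤ ⊤) c * a x) where
  isUnit x := (hc.map _).mul (h.isUnit x)
  comm x y W e := by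
    simp only [map_mul, ores_ores]
    rw [mul_left_comm, h.comm x y W e, mul_left_comm]

/-- two families differ by a global unit -/
theorem Fam.exists_ratio {π : X' ⟶ X} {a a' : ∀ x, Γ(X', π ⁻¹ᵁ F.U x)} (h : F.Fam π a) (h' : F.Fam π a') :
    ∃ c : Γ(X', ⊤), IsUnit c ∧ ∀ x, a' x = ores (le_top : π ⁻¹ᵁ F.U x ≤ ⊤) c * a x := by
  choose b hb using fun x => (h.isUnit x).exists_right_inv
  have hloc : ∀ x y : X, ∀ (W : X'.Opens) (e : W ≤ π ⁻¹ᵁ (F.U x ⊓ F.U y)),
      ores (e.trans (π.preimage_mono inf_le_left)) (a' x * b x) =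
        ores (e.trans (π.preimage_mono inf_le_right)) (a' y * b y) := fun x y W e => by
    have hu : IsUnit (π.appLE _ W e (F.t' x y)) := by
      obtain ⟨v, hv⟩ := (F.hm y (F.U x ⊓ F.U y) inf_le_right).2 (mres M inf_le_left (F.m x))
      simp only at hv
      rw [F.ht' x y, ← mul_smul] at hv
      have : v * F.t' x y = 1 := (F.hm x (F.U x ⊓ F.U y) inf_le_left).1 (show (v * F.t' x y) • _ = (1 : Γ(X, _)) • _ by rw [one_smul, hv])
      exact (IsUnit.of_mul_eq_one_right _ this).map _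
    have e1 := h.comm x y W e
    have e2 := h'.comm x y W e
    have e3 := congrArg (ores (e.trans (π.preimage_mono (inf_le_left : F.U x ⊓ F.U y ≤ F.U x)))) (hb x)
    have e4 := congrArg (ores (e.trans (π.preimage_mono (inf_le_right : F.U x ⊓ F.U y ≤ F.U y)))) (hb y)
    rw [map_mul, map_one] at e3 e4
    rw [map_mul, map_mul]
    set A := ores (e.trans (π.preimage_mono inf_le_left)) (a x)
    set A' := ores (e.trans (π.preimage_mono inf_le_left)) (a' x)
    set B := ores (e.trans (π.preimage_mono inf_le_left)) (b x)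
    set C := ores (e.trans (π.preimage_mono inf_le_right)) (a y)
    set C' := ores (e.trans (π.preimage_mono inf_le_right)) (a' y)
    set D := ores (e.trans (π.preimage_mono inf_le_right)) (b y)
    refine hu.mul_left_cancel ?_
    linear_combination (-(π.appLE _ W e (F.t' x y)) * A' * B) * e4 + (A' * B * D) * e1 +
      (A' * π.appLE _ W e (F.t x y) * D) * e3 - D * e2
  obtain ⟨c, hc, -⟩ := X'.sheaf.existsUnique_gluing' (fun x => π ⁻¹ᵁ F.U x) ⊤ (fun x => homOfLE le_top)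
    (F.cover π).ge (fun x => a' x * b x) fun x y => hloc x y _ le_rfl
  have hc' : ∀ x, ores (le_top : π ⁻¹ᵁ F.U x ≤ ⊤) c = a' x * b x := hc
  refine ⟨c, ?_, fun x => ?_⟩
  · refine RingedSpace.isUnit_of_isUnit_germ X'.toRingedSpace ⊤ c fun z _ => ?_
    have hz : z ∈ π ⁻¹ᵁ F.U (π z) := F.mem (π z)
    have h1 : IsUnit (a' (π z) * b (π z)) := (h'.isUnit _).mul (IsUnit.of_mul_eq_one_right _ (hb _))
    rw [← hc'] at h1
    have h2 := h1.map (X'.presheaf.germ _ z hz).hom
    exact (X'.presheaf.germ_res_apply (homOfLE le_top) z hz c) ▸ h2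
  · rw [hc', mul_assoc, mul_comm (b x), hb, mul_one]

end Frame

end Groth.Agent.PicDesc21

end
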