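import Groth.Agent.Lib.PicDesc21.Frame

/-!
Rigidified invertible modules which are isomorphic fppf locally on the base are isomorphic.
-/

universe u

open CategoryTheory CategoryTheory.Limits AlgebraicGeometry Opposite TopologicalSpace

set_option backward.isDefEq.respectTransparency false

noncomputable section

namespace Groth.Agent.PicDesc21

open Groth.Agent.M1 Groth.Agent.Twist

namespace Frame

variable {X X' X'' : Scheme.{u}} {L M : X.Modules} {F : Frame L M}

/-- pullback of families along a given factorisation -/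
theorem Fam.comp' {π : X' ⟶ X} {a : ∀ x, Γ(X', π ⁻¹ᵁ F.U x)} (h : F.Fam π a) {π' : X'' ⟶ X} (p : X'' ⟶ X')
    (hp : p ≫ π = π') : F.Fam π' (fun x => p.appLE (π ⁻¹ᵁ F.U x) (π' ⁻¹ᵁ F.U x) (by subst hp; exact le_rfl) (a x)) := by
  subst hp
  have := h.comp p
  simp only [Scheme.Hom.app_eq_appLE] at this
  exact this

end Frame

theorem appLE_appTop {X X' X'' : Scheme.{u}} (p : X'' ⟶ X') (π : X' ⟶ X) {W : X''.Opens} (e : W ≤ p ⁻¹ᵁ ⊤) (r : Γ(X, ⊤)) :
    p.appLE ⊤ W e (π.appTop r) = (p ≫ π).appLE ⊤ W le_top r :=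
  appLE_app p π (U := ⊤) e r

theorem unit_eq_one_of_mul_eq {A : Type*} [CommRing A] {c β : A} (hβ : IsUnit β) (h : c * β = β) : c = 1 :=
  hβ.mul_right_cancel (h.trans (_root_.one_mul β).symm)

/-- Rigidified invertible modules isomorphic fppf locally on the base are isomorphic. -/
theorem nonempty_iso_of_local {X S : Scheme.{u}} (f : X ⟶ S) (σ : S ⟶ X) (hσ : σ ≫ f = 𝟙 S)
    (ha : ∀ (T : Scheme.{u}) (τ : T ⟶ S), Function.Bijective (pullback.snd f τ).appTop)
    {L M : X.Modules} (hL : PicF.IsInvertible L) (hM : PicF.IsInvertible M)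
    (e : Nonempty ((Scheme.Modules.pullback σ).obj L ≅ (Scheme.Modules.pullback σ).obj M))
    {ι : Type*} {U : ι → Scheme.{u}} {u : ∀ k, U k ⟶ S} (hu : Presieve.ofArrows U u ∈ Scheme.fppfPrecoverage S)
    (hk : ∀ k, Nonempty ((Scheme.Modules.pullback (pullback.fst f (u k))).obj L ≅
      (Scheme.Modules.pullback (pullback.fst f (u k))).obj M)) : Nonempty (L ≅ M) := by
  obtain ⟨F⟩ := nonempty_frame hL hM
  obtain ⟨b, hb⟩ := F.exists_fam σ e.some
  let g : ∀ k, pullback f (u k) ⟶ X := fun k => pullback.fst f (u k)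
  let s : ∀ k, U k ⟶ pullback f (u k) := fun k =>
    pullback.lift (u k ≫ σ) (𝟙 _) (by rw [Category.assoc, hσ, Category.comp_id, Category.id_comp])
  have hsg : ∀ k, s k ≫ g k = u k ≫ σ := fun k => pullback.lift_fst _ _ _
  have hsf : ∀ k, s k ≫ pullback.snd f (u k) = 𝟙 _ := fun k => pullback.lift_snd _ _ _
  -- normalised families
  have hnorm : ∀ k, ∃ a, F.Fam (g k) a ∧ ∀ (x : X) (W : (U k).Opens) (e₁ : W ≤ s k ⁻¹ᵁ g k ⁻¹ᵁ F.U x)
      (e₂ : W ≤ u k ⁻¹ᵁ σ ⁻¹ᵁ F.U x), (s k).appLE _ W e₁ (a x) = (u k).appLE _ W e₂ (b x) := by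
    intro k
    obtain ⟨a₀, ha₀⟩ := F.exists_fam (g k) (hk k).some
    obtain ⟨r, hr, hr'⟩ := (hb.comp' (π' := u k ≫ σ) (u k) rfl).exists_ratio (ha₀.comp' (π' := u k ≫ σ) (s k) (hsg k))
    obtain ⟨r₁, hr₁⟩ := hr.exists_left_inv
    refine ⟨_, ha₀.smul ((pullback.snd f (u k)).appTop r₁) ((IsUnit.of_mul_eq_one _ hr₁).map _), fun x W e₁ e₂ => ?_⟩
    have h1 := congrArg (ores (show W ≤ (u k ≫ σ) ⁻¹ᵁ F.U x from e₂)) (hr' x)
    simp only [map_mul, appLE_res, ores_ores] at h1
    simp only [map_mul, appLE_ores]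
    rw [h1, appLE_appTop, ← mul_assoc]
    have h2 : ∀ (r : Γ(U k, ⊤)) (e), (s k ≫ pullback.snd f (u k)).appLE ⊤ W e r = ores (le_top : W ≤ ⊤) r := by
      rw [hsf k]
      intro r e
      rfl
    rw [h2, ← map_mul, hr₁, map_one, _root_.one_mul]
  choose a hafam hanorm using hnorm
  -- agreement
  have hcompat : ∀ (x : X) k l (Z : Scheme.{u}) (p : Z ⟶ pullback f (u k)) (q : Z ⟶ pullback f (u l)),
      p ≫ g k = q ≫ g l → ∀ (W : Z.Opens) (e₁ : W ≤ p ⁻¹ᵁ g k ⁻¹ᵁ F.U x) (e₂ : W ≤ q ⁻¹ᵁ g l ⁻¹ᵁ F.U x),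
        p.appLE _ W e₁ (a k x) = q.appLE _ W e₂ (a l x) := by
    intro x k l Z p q hpq W e₁ e₂
    let P := pullback (u k) (u l)
    let pr₁ : P ⟶ U k := pullback.fst _ _
    let pr₂ : P ⟶ U l := pullback.snd _ _
    let τ : P ⟶ S := pr₁ ≫ u k
    let w : pullback f τ ⟶ X := pullback.fst f τ
    let pk : pullback f τ ⟶ pullback f (u k) := pullback.lift w (pullback.snd f τ ≫ pr₁) (by
      rw [pullback.condition, Category.assoc])
    let pl : pullback f τ ⟶ pullback f (u l) := pullback.lift w (pullback.snd f τ ≫ pr₂) (by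
      rw [pullback.condition, Category.assoc]
      exact congrArg (_ ≫ ·) pullback.condition)
    have hpk : pk ≫ g k = w := pullback.lift_fst _ _ _
    have hpl : pl ≫ g l = w := pullback.lift_fst _ _ _
    let sP : P ⟶ pullback f τ :=
      pullback.lift (τ ≫ σ) (𝟙 _) (by rw [Category.assoc, hσ, Category.comp_id, Category.id_comp])
    have hτ : pr₂ ≫ u l = τ := pullback.condition.symm
    have hsk : sP ≫ pk = pr₁ ≫ s k := pullback.hom_ext (by simp [sP, pk, w, s, τ]) (by simp [sP, pk, s]; exact Category.id_comp _)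
    have hsl : sP ≫ pl = pr₂ ≫ s l :=
      pullback.hom_ext (by simp [sP, pl, w, s, reassoc_of% hτ]) (by simp [sP, pl, s]; exact Category.id_comp _)
    obtain ⟨c, hc, hc'⟩ := ((hafam k).comp' pk hpk).exists_ratio ((hafam l).comp' pl hpl)
    obtain ⟨d, rfl⟩ := (ha P τ).2 c
    have hd : d = 1 := by
      refine P.IsSheaf.section_ext fun z _ => ?_
      let y : X := σ (τ z)
      let V : P.Opens := τ ⁻¹ᵁ σ ⁻¹ᵁ F.U y
      refine ⟨V, le_top, F.mem y, ?_⟩
      have hV₁ : V ≤ sP ⁻¹ᵁ w ⁻¹ᵁ F.U y := by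
        rw [← Scheme.Hom.comp_preimage, show sP ≫ w = τ ≫ σ from pullback.lift_fst _ _ _]
        exact le_rfl
      have h1 := congrArg (sP.appLE _ V hV₁) (hc' y)
      simp only [map_mul, appLE_ores, appLE_appLE] at h1
      rw [appLE_appTop] at h1
      simp only [hsk, hsl, show sP ≫ pullback.snd f τ = 𝟙 _ from pullback.lift_snd _ _ _] at h1
      have key : ∀ (τ' : P ⟶ S) m (pr : P ⟶ U m) (_ : pr ≫ u m = τ') (e' : V ≤ τ' ⁻¹ᵁ σ ⁻¹ᵁ F.U y)
          (e : V ≤ (pr ≫ s m) ⁻¹ᵁ g m ⁻¹ᵁ F.U y),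
          (pr ≫ s m).appLE _ V e (a m y) = τ'.appLE _ V e' (b y) := by
        intro τ' m pr hm e' e
        subst hm
        let W' : (U m).Opens := u m ⁻¹ᵁ σ ⁻¹ᵁ F.U y
        have hW : W' ≤ s m ⁻¹ᵁ g m ⁻¹ᵁ F.U y := by
          rw [← Scheme.Hom.comp_preimage, hsg]
          exact le_rfl
        rw [← appLE_appLE pr (s m) hW (show V ≤ pr ⁻¹ᵁ W' from e'), hanorm m y W' hW le_rfl, appLE_appLE]
      rw [key τ k pr₁ rfl le_rfl, key τ l pr₂ hτ le_rfl] at h1
      have hunit : IsUnit (τ.appLE _ V le_rfl (b y)) := (hb.isUnit y).map _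
      have h3 := unit_eq_one_of_mul_eq hunit h1.symm
      change ores (le_top : V ≤ ⊤) d = ores (le_top : V ≤ ⊤) 1
      rw [map_one, ← h3]
      rfl
    subst hd
    simp only [map_one, _root_.one_mul] at hc'
    let j : Z ⟶ pullback f τ := pullback.lift (p ≫ g k) (pullback.lift (p ≫ pullback.snd _ _) (q ≫ pullback.snd _ _) (by
      rw [Category.assoc, Category.assoc, ← pullback.condition, ← pullback.condition]
      simpa only [Category.assoc, g] using congrArg (· ≫ f) hpq)) (by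
      simp only [τ, pr₁, g, pullback.lift_fst_assoc, Category.assoc]
      rw [pullback.condition])
    have hjp : j ≫ pk = p := pullback.hom_ext (by simp [j, pk, w, g]) (by simp [j, pk, pr₁])
    have hjq : j ≫ pl = q := pullback.hom_ext (by simp [j, pl, w]; exact hpq) (by simp [j, pl, pr₂])
    have hW : W ≤ j ⁻¹ᵁ w ⁻¹ᵁ F.U x := by
      rw [← Scheme.Hom.comp_preimage, show j ≫ w = p ≫ g k from pullback.lift_fst _ _ _]
      exact e₁
    have h1 := congrArg (j.appLE _ W hW) (hc' x)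
    simp only [appLE_appLE, hjp, hjq] at h1
    exact h1.symm
  have hcov : Presieve.ofArrows (fun k => pullback f (u k)) g ∈ Scheme.fppfPrecoverage X :=
    mem_fppf_of_isPullback hu fun k => (IsPullback.of_hasPullback f (u k)).flip
  choose bX hbX _ using fun x => existsUnique_fun hcov (F.U x) (fun k => a k x) (hcompat x)
  refine F.nonempty_iso (a := bX) ⟨fun x => ?_, fun x y W he => ?_⟩
  · choose c hc using fun k => ((hafam k).isUnit x).exists_left_inv
    obtain ⟨t, ht, -⟩ := existsUnique_fun hcov (F.U x) c (fun k l Z p q hpq W e₁ e₂ => by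
      have h1 := congrArg (p.appLE _ W e₁) (hc k)
      have h2 := congrArg (q.appLE _ W e₂) (hc l)
      rw [map_mul, map_one] at h1 h2
      rw [hcompat x k l Z p q hpq W e₁ e₂] at h1
      exact (((hafam l).isUnit x).map _).mul_right_cancel (h1.trans h2.symm))
    refine IsUnit.of_mul_eq_one_right t (fun_ext hcov fun k => ?_)
    show (g k).app (F.U x) (t * bX x) = (g k).app (F.U x) 1
    rw [map_mul, map_one, ht, hbX]
    exact hc k
  · refine fun_ext hcov fun k => ?_
    have hid : ∀ r : Γ(X, F.U x ⊓ F.U y), (𝟙 X : X ⟶ X).appLE (F.U x ⊓ F.U y) W he r = ores he r := fun r => rfl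
    rw [hid, hid]
    simp only [map_mul, Scheme.Hom.app_eq_appLE, appLE_ores]
    have h := (hafam k).comm x y (g k ⁻¹ᵁ W) ((g k).preimage_mono he)
    rw [← hbX x k, ← hbX y k, app_res, app_res] at h
    exact h

end Groth.Agent.PicDesc21

end
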